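import Cfsg.Agent.Lib.Techniques.OrderClasses
import Cfsg.Agent.Lib.Small.Order168
import Cfsg.Agent.Lib.Small.Basic

/-!
# Tools for recognition by the numbers of elements of each order
-/

set_option autoImplicit false
set_option linter.style.haveILetI false
set_option linter.unusedSectionVars false

namespace CfsgLib.Recog.OrderCounts

open Subgroup CfsgLib.Techniques.OrderClasses

variable {G : Type*} [Group G] [Finite G]

/-- Every count of elements of a given order is zero or lies in `C`. -/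
def CountsIn (G : Type*) [Group G] [Finite G] (C : Finset ℕ) : Prop :=
  ∀ m, cnt G m ≠ 0 → cnt G m ∈ C

theorem card_eq_sum_cnt (S : Finset ℕ) (hS : ∀ g : G, orderOf g ∈ S) :
    Nat.card G = ∑ m ∈ S, cnt G m := by
  classical
  haveI := Fintype.ofFinite G
  rw [Nat.card_eq_fintype_card, ← Finset.card_univ,
    Finset.card_eq_sum_card_fiberwise (f := fun g : G => orderOf g) (fun g _ => hS g)]
  refine Finset.sum_congr rfl fun m _ => ?_
  rw [cnt, Nat.card_eq_fintype_card, Fintype.card_subtype]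

theorem cnt_eq_zero_of_not_dvd {m : ℕ} (h : ¬ m ∣ Nat.card G) : cnt G m = 0 := by
  by_contra h0
  exact h (dvd_card_of_cnt G h0)

theorem cnt_ne_zero_of_prime {p : ℕ} (hp : p.Prime) (h : p ∣ Nat.card G) : cnt G p ≠ 0 := by
  haveI := Fact.mk hp
  obtain ⟨g, hg⟩ := exists_prime_orderOf_dvd_card' p h
  exact (cnt_pos G hg).ne'

theorem dvd_cnt_prime_succ {p : ℕ} (hp : p.Prime) (h : p ∣ Nat.card G) : p ∣ cnt G p + 1 := by
  have := cnt_prime G hp h
  rw [← ZMod.natCast_eq_zero_iff, Nat.cast_succ, this]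
  ring

theorem cnt_eq_one_or_two_of_odd {m : ℕ} (h : Odd (cnt G m)) : m ≤ 2 := by
  by_contra hm
  exact (Nat.not_even_iff_odd.2 h) (even_cnt G (by omega))

/-- A count that is odd and not one is the count of involutions. -/
theorem cnt_two_eq {c : ℕ} (hodd : Odd c) (hc : c ≠ 1) (hc0 : c ≠ 0) (h : ∃ m, cnt G m = c) :
    cnt G 2 = c := by
  obtain ⟨m, hm⟩ := h
  have h2 := cnt_eq_one_or_two_of_odd (G := G) (m := m) (hm ▸ hodd)
  interval_cases m
  · exfalso
    obtain ⟨g, hg⟩ := cnt_ne_zero G (m := 0) (hm ▸ hc0)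
    exact (orderOf_pos g).ne' hg
  · exact absurd ((cnt_one G).symm.trans hm) hc.symm
  · exact hm

/-- The count of a multiple of a prime order dominates the count in a centralizer. -/
theorem cnt_mul_le {p : ℕ} [hp : Fact p.Prime] (hsq : ¬ p ^ 2 ∣ Nat.card G) {y : G}
    (hy : orderOf y = p) {k : ℕ} (hk : ¬ p ∣ k) :
    cnt G p * cnt (centralizer ({y} : Set G)) k ≤ cnt G (p * k) := by
  classical
  have hpy : p ∣ Nat.card G := hy ▸ orderOf_dvd_natCard y
  have hsyl : ∀ P : Sylow p G, Nat.card (P : Subgroup G) = p := by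
    intro P
    obtain ⟨m, hm⟩ := hpy
    simpa using CfsgLib.Small.card_sylow_eq 1 m (by rw [pow_one]; exact hm)
      (fun h => hsq (by rw [hm, pow_two]; exact Nat.mul_dvd_mul_left p h)) P
  have hconj : ∀ x : {x : G // orderOf x = p}, ∃ h : G, ∀ g : G,
      g * y = y * g → h * g * h⁻¹ * x.1 = x.1 * (h * g * h⁻¹) := by
    intro x
    have hsub : ∀ z : G, orderOf z = p → ∃ P : Sylow p G, (P : Subgroup G) = zpowers z := by
      intro z hz
      obtain ⟨P, hP⟩ := (IsPGroup.of_card (p := p) (n := 1)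
        (show Nat.card (zpowers z) = p ^ 1 by rw [Nat.card_zpowers, hz, pow_one])).exists_le_sylow
      exact ⟨P, (Subgroup.eq_of_le_of_card_ge hP (by rw [hsyl P, Nat.card_zpowers, hz])).symm⟩
    obtain ⟨P, hP⟩ := hsub y hy
    obtain ⟨Q, hQ⟩ := hsub x.1 x.2
    obtain ⟨h, hh⟩ := MulAction.exists_smul_eq G P Q
    refine ⟨h, fun g hg => ?_⟩
    have hx : x.1 ∈ ((h • P : Sylow p G) : Subgroup G) := by
      rw [hh, hQ]; exact mem_zpowers _
    rw [Sylow.coe_subgroup_smul, Subgroup.mem_pointwise_smul_iff_inv_smul_mem, hP] at hx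
    obtain ⟨i, hi⟩ := hx
    have hi' : y ^ i = h⁻¹ * x.1 * h := by simpa [MulAut.smul_def] using hi
    have hxe : x.1 = h * y ^ i * h⁻¹ := by rw [hi']; group
    have hc : Commute g (y ^ i) := (show Commute g y from hg).zpow_right i
    rw [hxe]
    calc h * g * h⁻¹ * (h * y ^ i * h⁻¹) = h * (g * y ^ i) * h⁻¹ := by group
      _ = h * (y ^ i * g) * h⁻¹ := by rw [hc.eq]
      _ = _ := by group
  choose h hh using hconj
  rw [cnt, cnt, cnt, ← Nat.card_prod]
  let g' : {x : G // orderOf x = p} × {g : centralizer ({y} : Set G) // orderOf g = k} → G :=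
    fun q => h q.1 * (q.2.1 : G) * (h q.1)⁻¹
  have hg' : ∀ q, Commute q.1.1 (g' q) ∧ orderOf (g' q) = k := fun q =>
    ⟨(hh q.1 _ (mem_centralizer_singleton_iff.1 q.2.1.2)).symm, by
      show orderOf (MulAut.conj (h q.1) (q.2.1 : G)) = k
      rw [MulEquiv.orderOf_eq, Subgroup.orderOf_coe, q.2.2]⟩
  refine Nat.card_le_card_of_injective
    (fun q => ⟨q.1.1 * g' q, by
      rw [(hg' q).1.orderOf_mul_eq_mul_orderOf_of_coprime (by
        rw [q.1.2, (hg' q).2]; exact hp.out.coprime_iff_not_dvd.2 hk), q.1.2, (hg' q).2]⟩) ?_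
  rintro ⟨x, g⟩ ⟨x', g'₀⟩ heq
  have e : x.1 * g' (x, g) = x'.1 * g' (x', g'₀) := congrArg Subtype.val heq
  -- the `p`-part determines the first component
  obtain ⟨hc, ho⟩ := hg' (x, g)
  obtain ⟨hc', ho'⟩ := hg' (x', g'₀)
  obtain ⟨c, hc1⟩ : ∃ c : ℕ, k * c % p = 1 := by
    obtain ⟨c, -, hc⟩ := Nat.exists_mul_mod_eq_one_of_coprime
      ((hp.out.coprime_iff_not_dvd.2 hk).symm) hp.out.one_lt
    exact ⟨c, hc⟩
  have hpw : ∀ (a b : G), orderOf a = p → orderOf b = k → Commute a b →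
      (a * b) ^ (k * c) = a := by
    intro a b ha hb hab
    rw [hab.mul_pow, (orderOf_dvd_iff_pow_eq_one.1 (hb ▸ dvd_mul_right k c) : b ^ (k * c) = 1),
      mul_one, ← pow_mod_orderOf, ha, hc1, pow_one]
  have hx : x.1 = x'.1 := by
    have h1 := hpw _ _ x.2 ho hc
    have h2 := hpw _ _ x'.2 ho' hc'
    rw [← h1, ← h2, e]
  obtain rfl : x = x' := Subtype.ext hx
  have hg : h x * (g.1 : G) * (h x)⁻¹ = h x * (g'₀.1 : G) * (h x)⁻¹ := mul_left_cancel e
  exact Prod.ext rfl (Subtype.ext (Subtype.ext (mul_left_cancel (mul_right_cancel hg))))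

/-- A prime occurring once with a large count has a small centralizer. -/
theorem centralizer_card_dvd {p : ℕ} [hp : Fact p.Prime] (hsq : ¬ p ^ 2 ∣ Nat.card G) {y : G}
    (hy : orderOf y = p) (hbig : ∀ m, cnt G m < 2 * cnt G p) :
    Nat.card (centralizer ({y} : Set G)) = p ∨
      (Nat.card (centralizer ({y} : Set G)) = 2 * p ∧ cnt G p ≤ cnt G (2 * p)) := by
  classical
  set C := centralizer ({y} : Set G) with hC
  have hone : ∀ k, ¬ p ∣ k → cnt C k ≤ 1 := by
    intro k hk
    by_contra h2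
    have h1 := cnt_mul_le hsq hy (k := k) hk
    rw [← hC] at h1
    have h3 : cnt G p * 2 ≤ cnt G p * cnt C k := Nat.mul_le_mul_left _ (by omega)
    have := hbig (p * k)
    omega
  have hsmall : ∀ g : C, ¬ p ∣ orderOf g → orderOf g ≤ 2 := by
    intro g hg
    by_contra h2
    have h1 := hone _ hg
    have h3 := cnt_pos C (rfl : orderOf g = orderOf g)
    have h4 := totient_dvd_cnt C (orderOf g)
    have h5 : 2 ∣ Nat.totient (orderOf g) :=
      even_iff_two_dvd.1 (Nat.totient_even (show 2 < orderOf g by omega))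
    have h6 := Nat.le_of_dvd h3 (h5.trans h4)
    omega
  have hpC : p ∣ Nat.card C := by
    have : orderOf (⟨y, mem_centralizer_singleton_iff.2 rfl⟩ : C) = p := by
      rw [← Subgroup.orderOf_coe]; exact hy
    exact this ▸ orderOf_dvd_natCard _
  have hC0 : Nat.card C ≠ 0 := Nat.card_pos.ne'
  have hsqC : ¬ p ^ 2 ∣ Nat.card C := fun h => hsq (h.trans (card_subgroup_dvd_card C))
  obtain ⟨m, hm⟩ := hpC
  have hpm : ¬ p ∣ m := fun h => hsqC (by rw [hm, pow_two]; exact Nat.mul_dvd_mul_left p h)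
  have hm0 : m ≠ 0 := fun h => hC0 (by rw [hm, h, mul_zero])
  -- every prime divisor of `m` is two, with Sylow subgroup of order two
  by_cases hm1 : m = 1
  · exact Or.inl (by rw [hm, hm1, mul_one])
  right
  obtain ⟨q, hq, hqm⟩ := Nat.exists_prime_and_dvd hm1
  have hqp : q ≠ p := fun h => hpm (h ▸ hqm)
  haveI := Fact.mk hq
  obtain ⟨g, hg⟩ := exists_prime_orderOf_dvd_card' (G := C) q
    (hm ▸ dvd_mul_of_dvd_right hqm p)
  have hq2 : q = 2 := by
    have := hsmall g (by
      rw [hg]; exact fun h => hqp ((Nat.prime_dvd_prime_iff_eq hp.out hq).1 h).symm)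
    have := hq.two_le
    omega
  subst hq2
  have hp2 : p ≠ 2 := Ne.symm hqp
  have hm2 : m = 2 := by
    by_contra hne
    have hmprime : ∀ r, r.Prime → r ∣ m → r = 2 := fun r hr hrm => by
      haveI := Fact.mk hr
      obtain ⟨g, hg⟩ := exists_prime_orderOf_dvd_card' (G := C) r
        (hm ▸ dvd_mul_of_dvd_right hrm p)
      have := hsmall g (by
        rw [hg]
        exact fun h => hpm ((Nat.prime_dvd_prime_iff_eq hp.out hr).1 h ▸ hrm))
      have := hr.two_le
      omega
    obtain ⟨a, ha⟩ : ∃ a, m = 2 ^ a :=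
      ⟨_, Nat.eq_prime_pow_of_unique_prime_dvd hm0 fun hr hrm => hmprime _ hr hrm⟩
    have ha2 : 2 ≤ a := by
      rcases a with _ | _ | a
      · exact absurd ha hm1
      · exact absurd ha hne
      · omega
    obtain ⟨S, hS⟩ := Sylow.exists_subgroup_card_pow_prime 2
      (show 2 ^ 2 ∣ Nat.card C by rw [hm, ha]; exact dvd_mul_of_dvd_right (pow_dvd_pow 2 ha2) p)
    haveI := Fintype.ofFinite S
    have hcount : Nat.card S ≤ Nat.card ({1} ∪ {g : C | orderOf g = 2} : Set C) := by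
      refine Nat.card_le_card_of_injective (fun s => ⟨(s : C), ?_⟩)
        (fun a b e => Subtype.ext (congrArg (fun z : ({1} ∪ {g : C | orderOf g = 2} : Set C) =>
          (z : C)) e))
      obtain ⟨i, hi, hord⟩ := (Nat.dvd_prime_pow Nat.prime_two).1
        (hS ▸ orderOf_dvd_natCard s)
      have h1 := hsmall (s : C) (by
        rw [Subgroup.orderOf_coe, hord]
        exact fun h => hp2 ((Nat.prime_dvd_prime_iff_eq hp.out Nat.prime_two).1
          (hp.out.dvd_of_dvd_pow h)))
      rw [Subgroup.orderOf_coe] at h1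
      have hpos := orderOf_pos s
      rcases (show orderOf s = 1 ∨ orderOf s = 2 by omega) with e | e
      · exact Or.inl (by simp [orderOf_eq_one_iff.1 e])
      · exact Or.inr (by rw [Set.mem_setOf_eq, Subgroup.orderOf_coe, e])
    rw [Nat.card_coe_set_eq] at hcount
    have h3 := Set.ncard_union_le ({1} : Set C) {g : C | orderOf g = 2}
    rw [Set.ncard_singleton] at h3
    have h4 : {g : C | orderOf g = 2}.ncard ≤ 1 := by
      rw [← Nat.card_coe_set_eq]
      exact hone 2 fun h => hp2 ((Nat.prime_dvd_prime_iff_eq hp.out Nat.prime_two).1 h)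
    rw [hS] at hcount
    omega
  refine ⟨by rw [hm, hm2, mul_comm], ?_⟩
  have h1 := cnt_mul_le hsq hy (k := 2) fun h =>
    hp2 ((Nat.prime_dvd_prime_iff_eq hp.out Nat.prime_two).1 h)
  rw [mul_comm 2 p]
  exact le_trans (Nat.le_mul_of_pos_right _ (cnt_pos C hg)) h1

/-- A prime occurring once: the number of its Sylow subgroups and the normalizer. -/
theorem sylow_data {p : ℕ} [hp : Fact p.Prime] (hpd : p ∣ Nat.card G)
    (hsq : ¬ p ^ 2 ∣ Nat.card G) :
    ∃ (y : G) (n c : ℕ), orderOf y = p ∧ cnt G p = n * (p - 1) ∧ c ∣ p - 1 ∧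
      Nat.card G = n * (c * Nat.card (centralizer ({y} : Set G))) := by
  classical
  obtain ⟨m, hm⟩ := hpd
  have hsyl : ∀ P : Sylow p G, Nat.card (P : Subgroup G) = p := fun P => by
    simpa using CfsgLib.Small.card_sylow_eq 1 m (by rw [pow_one]; exact hm)
      (fun h => hsq (by rw [hm, pow_two]; exact Nat.mul_dvd_mul_left p h)) P
  obtain ⟨P⟩ : Nonempty (Sylow p G) := inferInstance
  obtain ⟨y, hy⟩ := exists_prime_orderOf_dvd_card' (G := (P : Subgroup G)) p (hsyl P).symm.dvd
  have hy' : orderOf (y : G) = p := by rw [Subgroup.orderOf_coe]; exact hy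
  have hPz : zpowers (y : G) = (P : Subgroup G) :=
    Subgroup.eq_of_le_of_card_ge (zpowers_le.2 y.2) (by rw [Nat.card_zpowers, hy', hsyl P])
  have hC : centralizer ((P : Subgroup G) : Set G) = centralizer ({(y : G)} : Set G) := by
    conv_lhs => rw [← hPz]
    rw [zpowers_eq_closure, centralizer_closure]
  set N := normalizer ((P : Subgroup G) : Set G) with hN
  let φ : N →* MulAut (P : Subgroup G) := (P : Subgroup G).normalizerMonoidHom
  haveI : IsCyclic (P : Subgroup G) := isCyclic_of_prime_card (hsyl P)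
  have hdvd : Nat.card φ.range ∣ p - 1 := by
    have h1 := card_subgroup_dvd_card φ.range
    rwa [IsCyclic.card_mulAut, hsyl P, Nat.totient_prime hp.out] at h1
  refine ⟨y, Nat.card (Sylow p G), Nat.card φ.range, hy', CfsgLib.Small.card_orderOf_eq_prime hsyl,
    hdvd, ?_⟩
  have h1 : Nat.card φ.range * Nat.card φ.ker = Nat.card N := by
    rw [← Subgroup.index_ker, mul_comm, Subgroup.card_mul_index]
  have h2 : Nat.card φ.ker = Nat.card (centralizer ({(y : G)} : Set G)) := by
    rw [← hC, Subgroup.normalizerMonoidHom_ker]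
    exact Nat.card_congr (Subgroup.subgroupOfEquivOfLe (centralizer_le_normalizer _)).toEquiv
  rw [← h2, h1, ← CfsgLib.Small.card_normalizer_mul P, mul_comm]

/-- Number of Sylow subgroups divides the order. -/
theorem dvd_card_of_cnt_prime {p n : ℕ} [hp : Fact p.Prime] (hpd : p ∣ Nat.card G)
    (hsq : ¬ p ^ 2 ∣ Nat.card G) (h : cnt G p = n * (p - 1)) : n ∣ Nat.card G := by
  obtain ⟨y, n', c, -, hn, -, hcard⟩ := sylow_data hpd hsq
  have : n = n' := Nat.eq_of_mul_eq_mul_right
    (show 0 < p - 1 by have := hp.out.two_le; omega) (h.symm.trans hn)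
  exact this ▸ hcard ▸ dvd_mul_right _ _

/-- In a cyclic Sylow subgroup every element below the top is a power. -/
theorem mul_cnt_le_of_sylow_cyclic {p a : ℕ} [hp : Fact p.Prime] (ha : 1 ≤ a)
    (hd : p ^ (a + 1) ∣ Nat.card G) (hnd : ¬ p ^ (a + 2) ∣ Nat.card G)
    (htop : cnt G (p ^ (a + 1)) ≠ 0) : p * cnt G (p ^ a) ≤ cnt G (p ^ (a + 1)) := by
  classical
  obtain ⟨g, hg⟩ := cnt_ne_zero G htop
  obtain ⟨m, hm⟩ := hd
  have hpm : ¬ p ∣ m := fun h => hnd (by
    rw [hm, pow_succ p (a + 1)]; exact Nat.mul_dvd_mul_left _ h)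
  have hsyl := CfsgLib.Small.card_sylow_eq (G := G) (a + 1) m hm hpm
  have hroot : ∀ x : {x : G // orderOf x = p ^ a}, ∃ z : G,
      orderOf z = p ^ (a + 1) ∧ z ^ p = x.1 := by
    intro x
    obtain ⟨P, hP⟩ := (IsPGroup.of_card (p := p) (n := a)
      (show Nat.card (zpowers x.1) = p ^ a by rw [Nat.card_zpowers, x.2])).exists_le_sylow
    obtain ⟨Q, hQ⟩ := (IsPGroup.of_card (p := p) (n := a + 1)
      (show Nat.card (zpowers g) = p ^ (a + 1) by rw [Nat.card_zpowers, hg])).exists_le_sylow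
    have hQ' : zpowers g = (Q : Subgroup G) :=
      Subgroup.eq_of_le_of_card_ge hQ (by rw [hsyl Q, Nat.card_zpowers, hg])
    obtain ⟨h, hh⟩ := MulAction.exists_smul_eq G P Q
    have hxQ : h * x.1 * h⁻¹ ∈ zpowers g := by
      rw [hQ', ← hh, Sylow.coe_subgroup_smul, Subgroup.mem_pointwise_smul_iff_inv_smul_mem]
      have := hP (mem_zpowers x.1)
      simpa [MulAut.smul_def, mul_assoc] using this
    obtain ⟨i, hi⟩ := (isOfFinOrder_of_finite g).mem_powers_iff_mem_zpowers.2 hxQ
    simp only at hi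
    have ho : orderOf (g ^ i) = p ^ a := by
      rw [hi, show h * x.1 * h⁻¹ = MulAut.conj h x.1 from rfl, MulEquiv.orderOf_eq, x.2]
    rw [orderOf_pow, hg] at ho
    have hpi : p ∣ i := by
      by_contra hpi
      have : (p ^ (a + 1)).gcd i = 1 := Nat.Coprime.pow_left _ (hp.out.coprime_iff_not_dvd.2 hpi)
      rw [this, Nat.div_one, Nat.pow_right_inj hp.out.two_le] at ho
      omega
    obtain ⟨j, hj⟩ := hpi
    have hz : (h⁻¹ * g ^ j * h) ^ p = x.1 := by
      rw [show h⁻¹ * g ^ j * h = MulAut.conj h⁻¹ (g ^ j) by simp, ← map_pow, ← pow_mul,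
        mul_comm j p, ← hj, hi]
      simp [mul_assoc]
    refine ⟨h⁻¹ * g ^ j * h, ?_, hz⟩
    have hne : (h⁻¹ * g ^ j * h) ^ p ^ a ≠ 1 := fun e => by
      have h2 : x.1 ^ p ^ (a - 1) = 1 := by
        rw [← hz, ← pow_mul, ← pow_succ', show a - 1 + 1 = a by omega, e]
      have h3 := Nat.le_of_dvd (pow_pos hp.out.pos _) (orderOf_dvd_of_pow_eq_one h2)
      rw [x.2] at h3
      exact absurd h3 (not_le.2 (Nat.pow_lt_pow_right hp.out.one_lt (by omega)))
    refine orderOf_eq_prime_pow hne ?_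
    rw [pow_succ', pow_mul, hz]
    exact orderOf_dvd_iff_pow_eq_one.1 x.2.dvd
  choose z hz1 hz2 using hroot
  suffices h : Nat.card ({x : G // orderOf x = p ^ a} × Fin p) ≤
      Nat.card {x : G // orderOf x = p ^ (a + 1)} by
    rw [Nat.card_prod, Nat.card_fin, mul_comm] at h
    exact h
  refine Nat.card_le_card_of_injective (fun q => ⟨z q.1 ^ (1 + p ^ a * q.2.1), ?_⟩) ?_
  · rw [Nat.Coprime.orderOf_pow, hz1]
    rw [hz1]
    refine Nat.Coprime.pow_left _ ((Nat.Prime.coprime_iff_not_dvd hp.out).2 fun hd => ?_)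
    have : p ∣ p ^ a * q.2.1 := dvd_mul_of_dvd_left (dvd_pow_self p (by omega)) _
    exact hp.out.not_dvd_one ((Nat.dvd_add_left this).1 hd)
  rintro ⟨x, i⟩ ⟨x', i'⟩ e
  have e' : z x ^ (1 + p ^ a * i.1) = z x' ^ (1 + p ^ a * i'.1) := congrArg Subtype.val e
  have hpow : ∀ (w : {x : G // orderOf x = p ^ a}) (k : ℕ),
      (z w ^ (1 + p ^ a * k)) ^ p = w.1 := by
    intro w k
    rw [← pow_mul, add_mul, one_mul, pow_add, hz2]
    have : z w ^ (p ^ a * k * p) = 1 := by
      rw [show p ^ a * k * p = p ^ (a + 1) * k by ring, pow_mul, ← hz1 w, pow_orderOf_eq_one,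
        one_pow]
    rw [this, mul_one]
  obtain rfl : x = x' := Subtype.ext (by rw [← hpow x i.1, ← hpow x' i'.1, e'])
  have hlt : ∀ k : Fin p, 1 + p ^ a * k.1 < orderOf (z x) := fun k => by
    rw [hz1, pow_succ]
    have h1 : p ^ a * (k.1 + 1) ≤ p ^ a * p := Nat.mul_le_mul_left _ k.2
    have h2 : 1 < p ^ a := Nat.one_lt_pow (by omega) hp.out.one_lt
    rw [mul_add, mul_one] at h1
    omega
  have := pow_injOn_Iio_orderOf (hlt i) (hlt i') e'
  have h2 : i.1 = i'.1 := Nat.eq_of_mul_eq_mul_left (pow_pos hp.out.pos a) (by omega)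
  exact Prod.ext rfl (Fin.ext h2)

end CfsgLib.Recog.OrderCounts
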