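import Cfsg.Agent.Lib.Recog.OrderCounts.Sieve
import Cfsg.Agent.Lib.Recog.OrderSixty
import Cfsg.Agent.Lib.Small.Order60

/-!
# Recognition of the alternating group of degree five
-/

set_option autoImplicit false
set_option linter.unusedSectionVars false
set_option maxHeartbeats 1000000

namespace CfsgLib.Recog.OrderCounts

open Subgroup CfsgLib.Techniques.OrderClasses

variable {G : Type*} [Group G] [Finite G]

theorem five (h : CountsIn G {1, 15, 20, 24}) (ha : Attains G {1, 15, 20, 24}) :
    Nonempty (G ≃* alternatingGroup (Fin 5)) := by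
  classical
  haveI : Fact (Nat.Prime 3) := ⟨Nat.prime_three⟩
  haveI : Fact (Nat.Prime 5) := ⟨Nat.prime_five⟩
  have h2 : cnt G 2 = 15 := cnt_two_eq (by decide) (by norm_num) (by norm_num) (ha 15 (by simp))
  have hopt : ∀ m, 2 < m → cnt G m = 0 ∨ (cnt G m = 20 ∧ Nat.totient m ∣ 20) ∨
      (cnt G m = 24 ∧ Nat.totient m ∣ 24) := by
    intro m hm
    rcases h.options m with h0 | h0
    · exact Or.inl h0
    · simp only [Finset.mem_filter, Finset.mem_insert, Finset.mem_singleton] at h0
      have he := even_cnt G hm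
      rw [Nat.even_iff] at he
      rcases h0 with ⟨h0 | h0 | h0 | h0, hd⟩
      · omega
      · omega
      · exact Or.inr (Or.inl ⟨h0, h0 ▸ hd⟩)
      · exact Or.inr (Or.inr ⟨h0, h0 ▸ hd⟩)
  have hbig : ∀ m, cnt G m < 30 := by
    intro m
    rcases h.options m with h0 | h0
    · omega
    · simp only [Finset.mem_filter, Finset.mem_insert, Finset.mem_singleton] at h0
      omega
  have hπ : ∀ p, p.Prime → p ∣ Nat.card G → p = 2 ∨ p = 3 ∨ p = 5 := by
    intro p hp hpd
    obtain ⟨c, hc, h1, h2⟩ := h.prime_spec hp hpd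
    simp only [Finset.mem_insert, Finset.mem_singleton] at hc
    rcases hc with rfl | rfl | rfl | rfl
    · exact Or.inl ((Nat.prime_dvd_prime_iff_eq hp Nat.prime_two).1 h2)
    all_goals
      have := Nat.le_of_dvd (by norm_num) h2
      interval_cases p <;> norm_num at *
  have h3d : 3 ∣ Nat.card G → cnt G 3 = 20 := by
    intro hd
    have h0 := cnt_ne_zero_of_prime Nat.prime_three hd
    have h1 := dvd_cnt_prime_succ Nat.prime_three hd
    have := hopt 3 (by norm_num)
    omega
  have h5d : 5 ∣ Nat.card G → cnt G 5 = 24 := by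
    intro hd
    have h0 := cnt_ne_zero_of_prime Nat.prime_five hd
    have h1 := dvd_cnt_prime_succ Nat.prime_five hd
    have := hopt 5 (by norm_num)
    omega
  have o9 := hopt 9 (by norm_num)
  rw [show Nat.totient 9 = 6 by decide] at o9
  have h27 : cnt G 27 = 0 := by
    rcases hopt 27 (by norm_num) with h0 | ⟨-, hd⟩ | ⟨-, hd⟩
    · exact h0
    · exact absurd hd (by decide)
    · exact absurd hd (by decide)
  -- nine does not divide the order
  have h9 : ¬ 9 ∣ Nat.card G := by
    intro hd
    have e9 := dvd_sum_cnt (G := G) hd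
    have h3 := h3d ((show 3 ∣ 9 by norm_num).trans hd)
    rw [show Nat.divisors 9 = {1, 3, 9} by decide] at e9
    simp [Finset.sum_insert, cnt_one, h3] at e9
    by_cases h27d : 27 ∣ Nat.card G
    · have e27 := dvd_sum_cnt (G := G) h27d
      rw [show Nat.divisors 27 = {1, 3, 9, 27} by decide] at e27
      simp [Finset.sum_insert, cnt_one, h3, h27] at e27
      omega
    · have := mul_cnt_le_of_sylow_cyclic (G := G) (p := 3) (a := 1) le_rfl
        (show 3 ^ (1 + 1) ∣ Nat.card G by simpa using hd) (by simpa using h27d)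
        (show cnt G (3 ^ (1 + 1)) ≠ 0 by norm_num; omega)
      norm_num at this
      omega
  have h125 : ¬ 125 ∣ Nat.card G := by
    intro hd
    have e125 := dvd_sum_cnt (G := G) hd
    rw [show Nat.divisors 125 = {1, 5, 25, 125} by decide] at e125
    simp [Finset.sum_insert, cnt_one, h5d ((show 5 ∣ 125 by norm_num).trans hd)] at e125
    have o25 := hopt 25 (by norm_num)
    have o125 := hopt 125 (by norm_num)
    omega
  have h25z : cnt G 25 = 0 := by
    by_contra h0
    have hd := dvd_card_of_cnt G h0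
    have e25 := dvd_sum_cnt (G := G) hd
    rw [show Nat.divisors 25 = {1, 5, 25} by decide] at e25
    simp [Finset.sum_insert, cnt_one, h5d ((show 5 ∣ 25 by norm_num).trans hd)] at e25
    have o25 := hopt 25 (by norm_num)
    rw [show Nat.totient 25 = 20 by decide] at o25
    omega
  have h9z : cnt G 9 = 0 := cnt_eq_zero_of_not_dvd h9
  have h32 : cnt G 32 = 0 := by
    rcases hopt 32 (by norm_num) with h0 | ⟨-, hd⟩ | ⟨-, hd⟩
    · exact h0
    · exact absurd hd (by decide)
    · exact absurd hd (by decide)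
  have h15 : cnt G 15 = 0 := by
    by_contra h0
    have hd := dvd_card_of_cnt G h0
    have e3 := cnt_mul_add G Nat.prime_three 5 (by norm_num) hd
    have e5 := cnt_mul_add G Nat.prime_five 3 (by norm_num) hd
    rw [← Nat.cast_add, ZMod.natCast_eq_zero_iff] at e3 e5
    rw [show 3 * 5 = 15 from rfl, h5d ((show 5 ∣ 15 by norm_num).trans hd)] at e3
    rw [show 5 * 3 = 15 from rfl, h3d ((show 3 ∣ 15 by norm_num).trans hd)] at e5
    have o15 := hopt 15 (by norm_num)
    omega
  have hlist : ∀ g : G,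
      orderOf g ∈ ({1, 2, 3, 4, 5, 6, 8, 10, 12, 16, 20, 24} : Finset ℕ) := by
    intro g
    have hd : orderOf g ∣ 2 ^ 4 * 3 ^ 1 * 5 ^ 1 :=
      dvd_of_bounds (orderOf_pos g).ne'
        (fun p hp hd => hπ p hp (hd.trans (orderOf_dvd_natCard g)))
        (not_dvd_orderOf h32 g) (not_dvd_orderOf h9z g) (not_dvd_orderOf h25z g)
    have hm : orderOf g ∈ Nat.divisors 240 := Nat.mem_divisors.2 ⟨hd, by norm_num⟩
    have hne : cnt G (orderOf g) ≠ 0 := (cnt_pos G rfl).ne'
    have h15' := not_dvd_orderOf h15 g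
    have hz : ∀ m, 2 < m → ¬ Nat.totient m ∣ 20 → ¬ Nat.totient m ∣ 24 → orderOf g ≠ m := by
      intro m hm2 ha hb e
      rcases hopt m hm2 with h0 | ⟨-, ht⟩ | ⟨-, ht⟩
      · exact hne (e ▸ h0)
      · exact ha ht
      · exact hb ht
    have z40 := hz 40 (by norm_num) (by decide) (by decide)
    have z48 := hz 48 (by norm_num) (by decide) (by decide)
    have z80 := hz 80 (by norm_num) (by decide) (by decide)
    rw [show Nat.divisors 240 =
      {1, 2, 3, 4, 5, 6, 8, 10, 12, 15, 16, 20, 24, 30, 40, 48, 60, 80, 120, 240} by decide] at hm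
    simp only [Finset.mem_insert, Finset.mem_singleton] at hm ⊢
    omega
  have hsum := card_eq_sum_cnt _ hlist
  simp [Finset.sum_insert, cnt_one, h2] at hsum
  have ho : ∀ m, 2 < m → cnt G m = 0 ∨ cnt G m = 20 ∨ cnt G m = 24 := fun m hm =>
    (hopt m hm).imp_right (Or.imp And.left And.left)
  have ho8 : ∀ m, 2 < m → Nat.totient m = 8 → cnt G m = 0 ∨ cnt G m = 24 := fun m hm ht => by
    rcases hopt m hm with h0 | ⟨-, hd⟩ | ⟨h0, -⟩
    · exact Or.inl h0
    · rw [ht] at hd; omega
    · exact Or.inr h0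
  have hub : Nat.card G ≤ 316 := by
    have := hbig 3; have := hbig 4; have := hbig 5; have := hbig 6; have := hbig 8
    have := hbig 10; have := hbig 12; have := hbig 16; have := hbig 20; have := hbig 24
    omega
  have o4 := ho 4 (by norm_num)
  have o6 := ho 6 (by norm_num)
  have o8 := ho 8 (by norm_num)
  have o10 := ho 10 (by norm_num)
  have o12 := ho 12 (by norm_num)
  have o16 := ho8 16 (by norm_num) (by decide)
  have o20 := ho8 20 (by norm_num) (by decide)
  have o24 := ho8 24 (by norm_num) (by decide)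
  have hatt : ∀ c, c = 20 ∨ c = 24 → cnt G 3 = c ∨ cnt G 4 = c ∨ cnt G 5 = c ∨ cnt G 6 = c ∨
      cnt G 8 = c ∨ cnt G 10 = c ∨ cnt G 12 = c ∨ cnt G 16 = c ∨ cnt G 20 = c ∨ cnt G 24 = c := by
    intro c hc
    obtain ⟨m, hm⟩ := ha c (by rcases hc with rfl | rfl <;> simp)
    obtain ⟨g, rfl⟩ := cnt_ne_zero G (m := m) (by omega)
    have := hlist g
    simp only [Finset.mem_insert, Finset.mem_singleton] at this
    rcases this with e | e | e | e | e | e | e | e | e | e | e | e <;> rw [e] at hm <;>
      (try rw [cnt_one] at hm) <;> omega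
  have a20 := hatt 20 (Or.inl rfl)
  have a24 := hatt 24 (Or.inr rfl)
  have hC3 : 3 ∣ Nat.card G → ∀ y : G, orderOf y = 3 →
      Nat.card (centralizer ({y} : Set G)) = 3 ∨
        (Nat.card (centralizer ({y} : Set G)) = 6 ∧ 20 ≤ cnt G 6) := by
    intro hd y hy
    have := centralizer_card_dvd (p := 3) (by simpa using h9) hy (fun m => by
      have := hbig m
      rw [h3d hd]
      omega)
    rwa [h3d hd] at this
  -- five divides the order
  have h5 : 5 ∣ Nat.card G := by
    by_contra h5
    have h3 : ¬ 3 ∣ Nat.card G := by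
      intro hd
      have := dvd_card_of_cnt_prime (G := G) (p := 3) (n := 10) hd (by simpa using h9)
        (by rw [h3d hd])
      omega
    have z3 := cnt_eq_zero_of_not_dvd h3
    have z5 := cnt_eq_zero_of_not_dvd h5
    have z6 := cnt_eq_zero_of_dvd (G := G) (show 3 ∣ 6 by norm_num) z3
    have z12 := cnt_eq_zero_of_dvd (G := G) (show 3 ∣ 12 by norm_num) z3
    have z24 := cnt_eq_zero_of_dvd (G := G) (show 3 ∣ 24 by norm_num) z3
    have z10 := cnt_eq_zero_of_dvd (G := G) (show 5 ∣ 10 by norm_num) z5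
    have z20 := cnt_eq_zero_of_dvd (G := G) (show 5 ∣ 20 by norm_num) z5
    have hd : Nat.card G ∣ 2 ^ 7 := by
      have h256 : ¬ 2 ^ (7 + 1) ∣ Nat.card G := fun hd => by
        have h1 := Nat.le_of_dvd Nat.card_pos hd
        have b4 := hbig 4; have b8 := hbig 8; have b16 := hbig 16
        rw [hsum, z3, z5, z6, z10, z12, z20, z24] at h1
        clear * - h1 b4 b8 b16
        omega
      simpa using dvd_of_bounds (n := Nat.card G) (a := 7) (b := 0) (c := 0) Nat.card_pos.ne' hπ
        h256 (by simpa using h3) (by simpa using h5)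
    obtain ⟨a, hale, hae⟩ := (Nat.dvd_prime_pow Nat.prime_two).1 hd
    interval_cases a <;> omega
  have f5 := h5d h5
  by_cases h25 : 25 ∣ Nat.card G
  · exfalso
    have h3 : ¬ 3 ∣ Nat.card G := by
      intro hd
      obtain ⟨y, n, c, hy, hn, hc, hcard⟩ := sylow_data (G := G) (p := 3) hd (by simpa using h9)
      rw [h3d hd] at hn
      obtain rfl : n = 10 := by omega
      have := Nat.le_of_dvd (by norm_num) hc
      rcases hC3 hd y hy with e | ⟨e, -⟩ <;> rw [e] at hcard <;> interval_cases c <;> omega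
    have z3 := cnt_eq_zero_of_not_dvd h3
    have z6 := cnt_eq_zero_of_dvd (G := G) (show 3 ∣ 6 by norm_num) z3
    have z12 := cnt_eq_zero_of_dvd (G := G) (show 3 ∣ 12 by norm_num) z3
    have z24 := cnt_eq_zero_of_dvd (G := G) (show 3 ∣ 24 by norm_num) z3
    have e10 : 5 ∣ cnt G 10 + cnt G 2 := by
      by_cases h0 : cnt G 10 = 0
      · rw [h0, h2]; norm_num
      · have e := cnt_mul_add G Nat.prime_five 2 (by norm_num) (dvd_card_of_cnt G h0)
        rwa [← Nat.cast_add, ZMod.natCast_eq_zero_iff] at e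
    have hd : Nat.card G ∣ 2 ^ 3 * 5 ^ 2 := by
      have h16 : ¬ 2 ^ (3 + 1) ∣ Nat.card G := fun hd => by
        have h1 := Nat.le_of_dvd Nat.card_pos
          (Nat.Coprime.mul_dvd_of_dvd_of_dvd (by norm_num) hd h25)
        clear * - h1 hub
        omega
      simpa using dvd_of_bounds (n := Nat.card G) (a := 3) (b := 0) (c := 2) Nat.card_pos.ne' hπ
        h16 (by simpa using h3) (by simpa using h125)
    obtain ⟨k, hk⟩ := h25
    have hk8 : k ∣ 8 := by
      rw [hk] at hd
      exact (Nat.mul_dvd_mul_iff_left (show 0 < 25 by norm_num)).1 hd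
    have := Nat.le_of_dvd (by norm_num) hk8
    have h8 : 8 ∣ Nat.card G ∨ cnt G 8 = 0 := or_iff_not_imp_right.2 (dvd_card_of_cnt G)
    have h16' : 16 ∣ Nat.card G ∨ cnt G 16 = 0 := or_iff_not_imp_right.2 (dvd_card_of_cnt G)
    interval_cases k <;> omega
  obtain ⟨y, n, c, hy, hn, hc, hcard⟩ := sylow_data (G := G) (p := 5) h5 (by simpa using h25)
  rw [f5] at hn
  obtain rfl : n = 6 := by omega
  have f3 := h3d (by rw [hcard]; exact dvd_mul_of_dvd_left (by norm_num) _)
  have h3 : 3 ∣ Nat.card G := by rw [hcard]; exact dvd_mul_of_dvd_left (by norm_num) _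
  have hC5 : ∀ z : G, orderOf z = 5 → Nat.card (centralizer ({z} : Set G)) = 5 := by
    intro z hz
    rcases centralizer_card_dvd (p := 5) (by simpa using h25) hz (fun m => by
      have := hbig m; rw [f5]; omega) with e | ⟨-, e⟩
    · exact e
    · exfalso
      rw [f5, show 2 * 5 = 10 from rfl] at e
      have e' := cnt_mul_add G Nat.prime_five 2 (by norm_num)
        (dvd_card_of_cnt G (m := 10) (by omega))
      rw [← Nat.cast_add, ZMod.natCast_eq_zero_iff, h2, show 5 * 2 = 10 from rfl] at e'
      omega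
  rw [hC5 y hy] at hcard
  have hc' : c ∣ 4 := by simpa using hc
  have hc4 := Nat.le_of_dvd (by norm_num) hc'
  have h60 : Nat.card G = 60 := by
    have z10 : cnt G 10 = 0 := by
      by_contra h0
      obtain ⟨g, hg⟩ := cnt_ne_zero G h0
      have := eq_of_self_centralizing (p := 5) hC5 (g := g) (by rw [hg]; norm_num)
      omega
    have z20 := cnt_eq_zero_of_dvd (G := G) (show 10 ∣ 20 by norm_num) z10
    by_contra hne
    obtain ⟨y3, n3, c3, hy3, hn3, hc3, hcard3⟩ :=
      sylow_data (G := G) (p := 3) h3 (by simpa using h9)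
    rw [f3] at hn3
    obtain rfl : n3 = 10 := by omega
    have hc32 := Nat.le_of_dvd (by norm_num) hc3
    have h120 : Nat.card G = 120 := by interval_cases c <;> omega
    rcases hC3 h3 y3 hy3 with e | ⟨e, e6⟩
    · rw [e] at hcard3
      interval_cases c3 <;> omega
    · have e3 := cnt_mul_add G Nat.prime_three 2 (by norm_num) (by rw [h120]; norm_num)
      rw [← Nat.cast_add, ZMod.natCast_eq_zero_iff, h2, show 3 * 2 = 6 from rfl] at e3
      omega
  have hsyl : Nat.card (Sylow 5 G) = 6 := by
    have hP : ∀ P : Sylow 5 G, Nat.card (P : Subgroup G) = 5 := fun P => by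
      simpa using CfsgLib.Small.card_sylow_eq 1 12 (by rw [h60]; norm_num) (by norm_num) P
    have := CfsgLib.Small.card_orderOf_eq_prime hP
    rw [← cnt, f5] at this
    omega
  haveI := CfsgLib.Recog.isSimpleGroup_of_six h60 hsyl
  exact CfsgLib.Small.equiv_alternating_five h60

end CfsgLib.Recog.OrderCounts
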