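import Cfsg.Agent.Lib.Recog.OrderCounts.Sieve

/-!
# Recognition of the alternating group of degree four
-/

set_option autoImplicit false
set_option linter.unusedSectionVars false

namespace CfsgLib.Recog.OrderCounts

open Subgroup CfsgLib.Techniques.OrderClasses Equiv

variable {G : Type*} [Group G] [Finite G]

theorem four (h : CountsIn G {1, 3, 8}) (ha : Attains G {1, 3, 8}) :
    Nonempty (G ≃* alternatingGroup (Fin 4)) := by
  classical
  have h2 : cnt G 2 = 3 := cnt_two_eq (by decide) (by norm_num) (by norm_num) (ha 3 (by simp))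
  have hopt : ∀ m, 2 < m → cnt G m = 0 ∨ (cnt G m = 8 ∧ Nat.totient m ∣ 8) := by
    intro m hm
    rcases h.options m with h0 | h0
    · exact Or.inl h0
    · simp only [Finset.mem_filter, Finset.mem_insert, Finset.mem_singleton] at h0
      have he := even_cnt G hm
      rw [Nat.even_iff] at he
      rcases h0 with ⟨h0 | h0 | h0, hd⟩
      · omega
      · omega
      · exact Or.inr ⟨h0, h0 ▸ hd⟩
  have hπ : ∀ p, p.Prime → p ∣ Nat.card G → p = 2 ∨ p = 3 := by
    intro p hp hpd
    obtain ⟨c, hc, h1, h2⟩ := h.prime_spec hp hpd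
    simp only [Finset.mem_insert, Finset.mem_singleton] at hc
    rcases hc with rfl | rfl | rfl
    · exact Or.inl ((Nat.prime_dvd_prime_iff_eq hp Nat.prime_two).1 h2)
    · have : p ≤ 4 := Nat.le_of_dvd (by norm_num) h2
      interval_cases p <;> norm_num at *
    · have : p ≤ 9 := Nat.le_of_dvd (by norm_num) h2
      interval_cases p <;> norm_num at *
  -- no element of order `8` or `9`
  have h9 : cnt G 9 = 0 := by
    rcases hopt 9 (by norm_num) with h0 | ⟨-, hd⟩
    · exact h0
    · exact absurd hd (by decide)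
  have hπ' : ∀ g : G, ∀ p, p.Prime → p ∣ orderOf g → p = 2 ∨ p = 3 ∨ p = 5 := fun g p hp hd =>
    (hπ p hp (hd.trans (orderOf_dvd_natCard g))).imp_right Or.inl
  have h5 : ∀ g : G, ¬ 5 ^ (0 + 1) ∣ orderOf g := fun g hd => by
    have := hπ 5 (by norm_num) ((show 5 ∣ orderOf g by simpa using hd).trans (orderOf_dvd_natCard g))
    omega
  have h32 : cnt G 32 = 0 := by
    rcases hopt 32 (by norm_num) with h0 | ⟨-, hd⟩
    · exact h0
    · exact absurd hd (by decide)
  have hlist : ∀ g : G, orderOf g ∈ Nat.divisors (2 ^ 4 * 3 ^ 1 * 5 ^ 0) := fun g =>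
    Nat.mem_divisors.2 ⟨dvd_of_bounds (orderOf_pos g).ne' (hπ' g)
      (not_dvd_orderOf h32 g) (not_dvd_orderOf h9 g) (h5 g), by norm_num⟩
  have hsum := card_eq_sum_cnt _ hlist
  rw [show Nat.divisors (2 ^ 4 * 3 ^ 1 * 5 ^ 0) = {1, 2, 3, 4, 6, 8, 12, 16, 24, 48} by decide] at hsum
  simp [Finset.sum_insert, cnt_one, h2] at hsum
  have o3 := hopt 3 (by norm_num)
  have o4 := hopt 4 (by norm_num)
  have o6 := hopt 6 (by norm_num)
  have o8 := hopt 8 (by norm_num)
  have o12 := hopt 12 (by norm_num)
  have o16 := hopt 16 (by norm_num)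
  have o24 := hopt 24 (by norm_num)
  have h48 : cnt G 48 = 0 := by
    rcases hopt 48 (by norm_num) with h0 | ⟨-, hd⟩
    · exact h0
    · exact absurd hd (by decide)
  have h8z : cnt G 8 = 0 := by
    by_contra h0
    have := dvd_card_of_cnt G h0
    omega
  have h16 : cnt G 16 = 0 := cnt_eq_zero_of_dvd (by norm_num) h8z
  have h24 : cnt G 24 = 0 := cnt_eq_zero_of_dvd (by norm_num) h8z
  have hcard : Nat.card G = 12 ∧ cnt G 3 = 8 := by
    rw [h8z, h16, h24, h48] at hsum
    have hN : Nat.card G = 12 ∨ Nat.card G = 20 ∨ Nat.card G = 28 ∨ Nat.card G = 36 := by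
      obtain ⟨m, hm⟩ := ha 8 (by simp)
      have hm0 : cnt G m ≠ 0 := by omega
      obtain ⟨g, rfl⟩ := cnt_ne_zero G hm0
      have := hlist g
      rw [show Nat.divisors (2 ^ 4 * 3 ^ 1 * 5 ^ 0) = {1, 2, 3, 4, 6, 8, 12, 16, 24, 48}
        by decide] at this
      simp only [Finset.mem_insert, Finset.mem_singleton] at this
      rcases this with e | e | e | e | e | e | e | e | e | e <;> rw [e] at hm <;>
        (try rw [cnt_one] at hm) <;> omega
    rcases hN with hN | hN | hN | hN
    · refine ⟨hN, ?_⟩
      have := cnt_ne_zero_of_prime (G := G) Nat.prime_three (by rw [hN]; norm_num)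
      omega
    · have := hπ 5 (by norm_num) (by rw [hN]; norm_num)
      omega
    · have := hπ 7 (by norm_num) (by rw [hN]; norm_num)
      omega
    · exfalso
      have e12 := cnt_mul G Nat.prime_three (d := 4) (by norm_num) (by rw [hN]; norm_num)
      have hall : cnt G 4 = 8 ∧ cnt G 12 = 8 := by omega
      rw [show (3 * 4) = 12 from rfl, hall.1, hall.2] at e12
      exact absurd e12 (by decide)
  obtain ⟨hcard, h38⟩ := hcard
  -- the action on the four Sylow subgroups of order three
  haveI : Fact (Nat.Prime 3) := ⟨Nat.prime_three⟩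
  have hsyl : ∀ P : Sylow 3 G, Nat.card (P : Subgroup G) = 3 := fun P => by
    simpa using CfsgLib.Small.card_sylow_eq 1 4 (by rw [hcard]; norm_num) (by norm_num) P
  have hn : Nat.card (Sylow 3 G) = 4 := by
    have := CfsgLib.Small.card_orderOf_eq_prime hsyl
    rw [← cnt, h38] at this
    omega
  let φ : G →* Perm (Sylow 3 G) := MulAction.toPermHom G (Sylow 3 G)
  have hker : φ.ker = ⊥ := by
    obtain ⟨P⟩ : Nonempty (Sylow 3 G) := inferInstance
    have hN : Nat.card (normalizer ((P : Subgroup G) : Set G)) = 3 := by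
      have := CfsgLib.Small.card_normalizer_mul P
      rw [hn, hcard] at this
      omega
    have hNP : normalizer ((P : Subgroup G) : Set G) = (P : Subgroup G) :=
      (Subgroup.eq_of_le_of_card_ge le_normalizer (by rw [hN, hsyl P])).symm
    have hle : φ.ker ≤ (P : Subgroup G) := fun g hg => by
      rw [← hNP]
      have h1 : φ g P = P := by rw [MonoidHom.mem_ker.1 hg]; rfl
      exact Sylow.smul_eq_iff_mem_normalizer.1 h1
    by_contra hne
    have heq : φ.ker = (P : Subgroup G) := by
      refine Subgroup.eq_of_le_of_card_ge hle ?_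
      have hd := Subgroup.card_dvd_of_le hle
      rw [hsyl P] at hd ⊢
      rcases (Nat.dvd_prime Nat.prime_three).1 hd with e | e
      · exact absurd (Subgroup.card_eq_one.1 e) hne
      · exact e.ge
    haveI : (P : Subgroup G).Normal := heq ▸ inferInstance
    rw [Subgroup.normalizer_eq_top_iff.2 inferInstance, Subgroup.card_top, hcard] at hN
    norm_num at hN
  haveI : Fintype (Sylow 3 G) := Fintype.ofFinite _
  have hrange : Nat.card φ.range = 12 := by
    rw [← hcard]
    exact Nat.card_congr (MonoidHom.ofInjective ((MonoidHom.ker_eq_bot_iff φ).1 hker)).toEquiv.symm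
  have hidx : φ.range.index = 2 := by
    have := Subgroup.card_mul_index φ.range
    rw [hrange, Nat.card_perm, hn] at this
    norm_num [Nat.factorial] at this
    omega
  have hr := Equiv.Perm.eq_alternatingGroup_of_index_eq_two hidx
  let e : Sylow 3 G ≃ Fin 4 := (Fintype.equivFin _).trans (finCongr (by
    rw [← Nat.card_eq_fintype_card, hn]))
  exact ⟨((MonoidHom.ofInjective ((MonoidHom.ker_eq_bot_iff φ).1 hker)).trans
    (MulEquiv.subgroupCongr hr)).trans e.altCongrHom⟩

end CfsgLib.Recog.OrderCounts
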