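import Cfsg.Agent.Lib.Techniques.OrderClasses
import Mathlib.GroupTheory.SpecificGroups.Alternating

/-!
# The numbers of elements of each order in small alternating groups
-/

set_option autoImplicit false

namespace CfsgLib.Recog.OrderCounts

open Subgroup CfsgLib.Techniques.OrderClasses Equiv

variable {H : Type*} [Group H] [Fintype H] [DecidableEq H]

theorem cnt_prime_eq (p : ℕ) [Fact p.Prime] :
    cnt H p = (Finset.univ.filter fun g : H => g ^ p = 1 ∧ g ≠ 1).card := by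
  rw [cnt, Nat.card_eq_fintype_card, Fintype.card_subtype]
  exact congrArg _ (Finset.filter_congr fun g _ => orderOf_eq_prime_iff)

theorem cnt_four_eq :
    cnt H 4 = (Finset.univ.filter fun g : H => g ^ 4 = 1 ∧ g ^ 2 ≠ 1).card := by
  rw [cnt, Nat.card_eq_fintype_card, Fintype.card_subtype]
  refine congrArg _ (Finset.filter_congr fun g _ => ⟨fun h => ?_, fun h => ?_⟩)
  · refine ⟨h ▸ pow_orderOf_eq_one g, fun h2 => ?_⟩
    have := Nat.le_of_dvd two_pos (orderOf_dvd_of_pow_eq_one h2)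
    omega
  · haveI : Fact (Nat.Prime 2) := ⟨Nat.prime_two⟩
    exact orderOf_eq_prime_pow (p := 2) (n := 1) (by simpa using h.2) (by simpa using h.1)

theorem orders_four : ∀ g : alternatingGroup (Fin 4), g ^ 2 = 1 ∨ g ^ 3 = 1 := by decide +kernel

theorem orders_five : ∀ g : alternatingGroup (Fin 5), g ^ 2 = 1 ∨ g ^ 3 = 1 ∨ g ^ 5 = 1 := by
  decide +kernel

theorem orders_six : ∀ g : alternatingGroup (Fin 6), g ^ 3 = 1 ∨ g ^ 4 = 1 ∨ g ^ 5 = 1 := by
  decide +kernel

theorem image_eq {G : Type*} [Group G] [Finite G] (H : Type*) [Group H] [Finite H]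
    (C : Finset ℕ) (M : Finset ℕ) (hM : ∀ g : H, orderOf g ∈ M)
    (hC : ∀ m ∈ M, cnt H m ∈ C) (hC' : ∀ c ∈ C, ∃ m, cnt H m = c) (hC0 : 0 ∉ C)
    (h : ((fun m : ℕ => Nat.card {g : G // orderOf g = m}) '' Set.range (orderOf : G → ℕ)) =
      ((fun m : ℕ => Nat.card {g : H // orderOf g = m}) '' Set.range (orderOf : H → ℕ))) :
    (∀ m, cnt G m ≠ 0 → cnt G m ∈ C) ∧ ∀ c ∈ C, ∃ m, cnt G m = c := by
  refine ⟨fun m hm => ?_, fun c hc => ?_⟩
  · obtain ⟨_, ⟨x, rfl⟩, e⟩ := h.le ⟨m, cnt_ne_zero G hm, rfl⟩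
    have e' : cnt H (orderOf x) = cnt G m := e
    exact e' ▸ hC _ (hM x)
  · obtain ⟨m, hm⟩ := hC' c hc
    have hm0 : cnt H m ≠ 0 := fun h0 => hC0 (by rw [← h0, hm]; exact hc)
    obtain ⟨m', -, e⟩ := h.ge ⟨m, cnt_ne_zero H hm0, rfl⟩
    exact ⟨m', e.trans hm⟩

theorem dvd_cases_of_pow {g : H} {n : ℕ} (hn : n ≠ 0) (h : g ^ n = 1) :
    orderOf g ∈ n.divisors :=
  Nat.mem_divisors.2 ⟨orderOf_dvd_of_pow_eq_one h, hn⟩

section

variable {G : Type*} [Group G] [Finite G]

theorem counts_four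
    (h : ((fun m : ℕ => Nat.card {g : G // orderOf g = m}) '' Set.range (orderOf : G → ℕ)) =
      ((fun m : ℕ => Nat.card {g : alternatingGroup (Fin 4) // orderOf g = m}) ''
        Set.range (orderOf : alternatingGroup (Fin 4) → ℕ))) :
    (∀ m, cnt G m ≠ 0 → cnt G m ∈ ({1, 3, 8} : Finset ℕ)) ∧
      ∀ c ∈ ({1, 3, 8} : Finset ℕ), ∃ m, cnt G m = c := by
  haveI : Fact (Nat.Prime 2) := ⟨Nat.prime_two⟩
  haveI : Fact (Nat.Prime 3) := ⟨Nat.prime_three⟩
  have e2 : cnt (alternatingGroup (Fin 4)) 2 = 3 := by rw [cnt_prime_eq]; decide +kernel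
  have e3 : cnt (alternatingGroup (Fin 4)) 3 = 8 := by rw [cnt_prime_eq]; decide +kernel
  refine image_eq _ _ {1, 2, 3} (fun g => ?_) ?_ ?_ (by decide) h
  · rcases orders_four g with e | e <;>
      have := dvd_cases_of_pow (by norm_num) e <;>
      simp only [Finset.mem_insert, Finset.mem_singleton, show Nat.divisors 2 = {1, 2} by decide, show Nat.divisors 3 = {1, 3} by decide] at this ⊢ <;>
      omega
  · intro m hm
    simp only [Finset.mem_insert, Finset.mem_singleton] at hm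
    rcases hm with rfl | rfl | rfl <;> simp [cnt_one, e2, e3]
  · intro c hc
    simp only [Finset.mem_insert, Finset.mem_singleton] at hc
    rcases hc with rfl | rfl | rfl
    exacts [⟨1, cnt_one _⟩, ⟨2, e2⟩, ⟨3, e3⟩]

theorem counts_five
    (h : ((fun m : ℕ => Nat.card {g : G // orderOf g = m}) '' Set.range (orderOf : G → ℕ)) =
      ((fun m : ℕ => Nat.card {g : alternatingGroup (Fin 5) // orderOf g = m}) ''
        Set.range (orderOf : alternatingGroup (Fin 5) → ℕ))) :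
    (∀ m, cnt G m ≠ 0 → cnt G m ∈ ({1, 15, 20, 24} : Finset ℕ)) ∧
      ∀ c ∈ ({1, 15, 20, 24} : Finset ℕ), ∃ m, cnt G m = c := by
  haveI : Fact (Nat.Prime 2) := ⟨Nat.prime_two⟩
  haveI : Fact (Nat.Prime 3) := ⟨Nat.prime_three⟩
  haveI : Fact (Nat.Prime 5) := ⟨Nat.prime_five⟩
  have e2 : cnt (alternatingGroup (Fin 5)) 2 = 15 := by rw [cnt_prime_eq]; decide +kernel
  have e3 : cnt (alternatingGroup (Fin 5)) 3 = 20 := by rw [cnt_prime_eq]; decide +kernel
  have e5 : cnt (alternatingGroup (Fin 5)) 5 = 24 := by rw [cnt_prime_eq]; decide +kernel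
  refine image_eq _ _ {1, 2, 3, 5} (fun g => ?_) ?_ ?_ (by decide) h
  · rcases orders_five g with e | e | e <;>
      have := dvd_cases_of_pow (by norm_num) e <;>
      simp only [Finset.mem_insert, Finset.mem_singleton, show Nat.divisors 2 = {1, 2} by decide, show Nat.divisors 3 = {1, 3} by decide,
        show Nat.divisors 5 = {1, 5} by decide] at this ⊢ <;>
      omega
  · intro m hm
    simp only [Finset.mem_insert, Finset.mem_singleton] at hm
    rcases hm with rfl | rfl | rfl | rfl <;> simp [cnt_one, e2, e3, e5]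
  · intro c hc
    simp only [Finset.mem_insert, Finset.mem_singleton] at hc
    rcases hc with rfl | rfl | rfl | rfl
    exacts [⟨1, cnt_one _⟩, ⟨2, e2⟩, ⟨3, e3⟩, ⟨5, e5⟩]

theorem counts_six
    (h : ((fun m : ℕ => Nat.card {g : G // orderOf g = m}) '' Set.range (orderOf : G → ℕ)) =
      ((fun m : ℕ => Nat.card {g : alternatingGroup (Fin 6) // orderOf g = m}) ''
        Set.range (orderOf : alternatingGroup (Fin 6) → ℕ))) :
    (∀ m, cnt G m ≠ 0 → cnt G m ∈ ({1, 45, 80, 90, 144} : Finset ℕ)) ∧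
      ∀ c ∈ ({1, 45, 80, 90, 144} : Finset ℕ), ∃ m, cnt G m = c := by
  haveI : Fact (Nat.Prime 2) := ⟨Nat.prime_two⟩
  haveI : Fact (Nat.Prime 3) := ⟨Nat.prime_three⟩
  haveI : Fact (Nat.Prime 5) := ⟨Nat.prime_five⟩
  have e2 : cnt (alternatingGroup (Fin 6)) 2 = 45 := by rw [cnt_prime_eq]; decide +kernel
  have e3 : cnt (alternatingGroup (Fin 6)) 3 = 80 := by rw [cnt_prime_eq]; decide +kernel
  have e4 : cnt (alternatingGroup (Fin 6)) 4 = 90 := by rw [cnt_four_eq]; decide +kernel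
  have e5 : cnt (alternatingGroup (Fin 6)) 5 = 144 := by rw [cnt_prime_eq]; decide +kernel
  refine image_eq _ _ {1, 2, 3, 4, 5} (fun g => ?_) ?_ ?_ (by decide) h
  · rcases orders_six g with e | e | e <;>
      have := dvd_cases_of_pow (by norm_num) e <;>
      simp only [Finset.mem_insert, Finset.mem_singleton, show Nat.divisors 3 = {1, 3} by decide, show Nat.divisors 4 = {1, 2, 4} by decide,
        show Nat.divisors 5 = {1, 5} by decide] at this ⊢ <;>
      omega
  · intro m hm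
    simp only [Finset.mem_insert, Finset.mem_singleton] at hm
    rcases hm with rfl | rfl | rfl | rfl | rfl <;> simp [cnt_one, e2, e3, e4, e5]
  · intro c hc
    simp only [Finset.mem_insert, Finset.mem_singleton] at hc
    rcases hc with rfl | rfl | rfl | rfl | rfl
    exacts [⟨1, cnt_one _⟩, ⟨2, e2⟩, ⟨3, e3⟩, ⟨4, e4⟩, ⟨5, e5⟩]

end

end CfsgLib.Recog.OrderCounts
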