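import Cfsg.Agent.Lib.Recog.OrderCounts.Basic

/-!
# Sieving the possible element orders
-/

set_option autoImplicit false
set_option linter.unusedSectionVars false

namespace CfsgLib.Recog.OrderCounts

open Subgroup CfsgLib.Techniques.OrderClasses

variable {G : Type*} [Group G] [Finite G]

/-- Every value in `C` occurs. -/
def Attains (G : Type*) [Group G] [Finite G] (C : Finset ℕ) : Prop :=
  ∀ c ∈ C, ∃ m, cnt G m = c

theorem CountsIn.options {C : Finset ℕ} (h : CountsIn G C) (m : ℕ) :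
    cnt G m = 0 ∨ cnt G m ∈ C.filter (fun c => Nat.totient m ∣ c) := by
  rcases eq_or_ne (cnt G m) 0 with h0 | h0
  · exact Or.inl h0
  · exact Or.inr (Finset.mem_filter.2 ⟨h m h0, totient_dvd_cnt G m⟩)

theorem CountsIn.prime_spec {C : Finset ℕ} (h : CountsIn G C) {p : ℕ} (hp : p.Prime)
    (hpd : p ∣ Nat.card G) : ∃ c ∈ C, p - 1 ∣ c ∧ p ∣ c + 1 := by
  refine ⟨cnt G p, h p (cnt_ne_zero_of_prime hp hpd), ?_, dvd_cnt_prime_succ hp hpd⟩
  simpa [Nat.totient_prime hp] using totient_dvd_cnt G p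

theorem cnt_eq_zero_of_dvd {d m : ℕ} (hdm : d ∣ m) (h : cnt G d = 0) : cnt G m = 0 := by
  by_contra h0
  obtain ⟨g, hg⟩ := cnt_ne_zero G h0
  have hm : m ≠ 0 := hg ▸ (orderOf_pos g).ne'
  have : orderOf (g ^ (m / d)) = d := by
    rw [orderOf_pow, hg, Nat.gcd_eq_right (Nat.div_dvd_of_dvd hdm), Nat.div_div_self hdm hm]
  exact (cnt_pos G this).ne' h

theorem dvd_sum_cnt {N : ℕ} (hN : N ∣ Nat.card G) : N ∣ ∑ d ∈ N.divisors, cnt G d := by
  rw [sum_cnt G (fun e => Nat.card_pos.ne' (zero_dvd_iff.1 (e ▸ hN) : Nat.card G = 0))]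
  exact CfsgLib.Base.Solutions.dvd_card_pow_eq_one hN

theorem pow_le_of_not_dvd {p k e n : ℕ} (h : p ^ k ∣ n) (hn : ¬ p ^ (e + 1) ∣ n) : k ≤ e := by
  by_contra hk
  exact hn ((pow_dvd_pow p (by omega)).trans h)

/-- A number with prime divisors among `2`, `3`, `5` and bounded exponents. -/
theorem dvd_of_bounds {n a b c : ℕ} (hn : n ≠ 0)
    (hπ : ∀ p, p.Prime → p ∣ n → p = 2 ∨ p = 3 ∨ p = 5)
    (h2 : ¬ 2 ^ (a + 1) ∣ n) (h3 : ¬ 3 ^ (b + 1) ∣ n) (h5 : ¬ 5 ^ (c + 1) ∣ n) :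
    n ∣ 2 ^ a * 3 ^ b * 5 ^ c := by
  rw [Nat.dvd_iff_prime_pow_dvd_dvd]
  intro p k hp hk
  rcases Nat.eq_zero_or_pos k with rfl | hk0
  · simp
  rcases hπ p hp ((dvd_pow_self p hk0.ne').trans hk) with rfl | rfl | rfl
  · exact ((pow_dvd_pow 2 (pow_le_of_not_dvd hk h2)).trans (dvd_mul_right _ _)).trans
      (dvd_mul_right _ _)
  · exact ((pow_dvd_pow 3 (pow_le_of_not_dvd hk h3)).trans (dvd_mul_left _ _)).trans
      (dvd_mul_right _ _)
  · exact (pow_dvd_pow 5 (pow_le_of_not_dvd hk h5)).trans (dvd_mul_left _ _)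

theorem not_dvd_orderOf {d : ℕ} (h : cnt G d = 0) (g : G) : ¬ d ∣ orderOf g := fun hd =>
  (cnt_pos G (rfl : orderOf g = orderOf g)).ne' (cnt_eq_zero_of_dvd hd h)

/-- Orders of elements when a prime is self-centralizing. -/
theorem eq_of_self_centralizing {p : ℕ} [hp : Fact p.Prime]
    (hC : ∀ y : G, orderOf y = p → Nat.card (centralizer ({y} : Set G)) = p) {g : G}
    (hd : p ∣ orderOf g) : orderOf g = p := by
  obtain ⟨y, hy⟩ : ∃ y, y = g ^ (orderOf g / p) := ⟨_, rfl⟩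
  have hyp : orderOf y = p := by rw [hy]; exact orderOf_pow_orderOf_div (orderOf_pos g).ne' hd
  have hmem : g ∈ centralizer ({y} : Set G) := mem_centralizer_singleton_iff.2
    (by rw [hy]; exact (Commute.self_pow g (orderOf g / p)).eq)
  have h1 : orderOf (⟨g, hmem⟩ : centralizer ({y} : Set G)) ∣ p :=
    (_root_.orderOf_dvd_natCard _).trans (hC y hyp).dvd
  rw [← Subgroup.orderOf_coe] at h1
  exact Nat.dvd_antisymm h1 hd

end CfsgLib.Recog.OrderCounts
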