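import Cfsg.Agent.Lib.Recog.OrderCounts.Sieve

/-!
# Counting constraints for the alternating group of degree six
-/

set_option autoImplicit false

namespace CfsgLib.Recog.OrderCounts

/-- The sum of the remaining counts written with the numbers of counts `80`, `90`, `144`. -/
theorem six_combo {f4 f6 f8 f12 f16 f24 f32 f48 : ℕ}
    (o4 : f4 = 0 ∨ f4 = 80 ∨ f4 = 90 ∨ f4 = 144) (o6 : f6 = 0 ∨ f6 = 80 ∨ f6 = 90 ∨ f6 = 144)
    (o8 : f8 = 0 ∨ f8 = 80 ∨ f8 = 144) (o12 : f12 = 0 ∨ f12 = 80 ∨ f12 = 144)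
    (o16 : f16 = 0 ∨ f16 = 80 ∨ f16 = 144) (o24 : f24 = 0 ∨ f24 = 80 ∨ f24 = 144)
    (o32 : f32 = 0 ∨ f32 = 80 ∨ f32 = 144) (o48 : f48 = 0 ∨ f48 = 80 ∨ f48 = 144) :
    ∃ A B C, f4 + f6 + f8 + f12 + f16 + f24 + f32 + f48 = 80 * A + 90 * B + 144 * C ∧
      B ≤ 2 ∧ A + B + C ≤ 8 ∧ (f4 = 90 ∨ f6 = 90 → 1 ≤ B) ∧
        (f4 = 144 ∨ f6 = 144 ∨ f8 = 144 ∨ f12 = 144 ∨ f16 = 144 ∨ f24 = 144 ∨ f32 = 144 ∨
          f48 = 144 → 1 ≤ C) := by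
  have h : ∀ f, f = 0 ∨ f = 80 ∨ f = 90 ∨ f = 144 →
      ∃ a b c, f = 80 * a + 90 * b + 144 * c ∧ a + b + c ≤ 1 ∧ (f ≠ 90 → b = 0) ∧
        (f = 90 → b = 1) ∧ (f = 144 → c = 1) := by
    rintro f (rfl | rfl | rfl | rfl)
    exacts [⟨0, 0, 0, by norm_num⟩, ⟨1, 0, 0, by norm_num⟩, ⟨0, 1, 0, by norm_num⟩,
      ⟨0, 0, 1, by norm_num⟩]
  have w : ∀ {f}, f = 0 ∨ f = 80 ∨ f = 144 →
      (f = 0 ∨ f = 80 ∨ f = 90 ∨ f = 144) ∧ f ≠ 90 := fun {f} hf => by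
    clear * - hf
    omega
  obtain ⟨a1, b1, c1, e1, s1, -, u1, t1⟩ := h f4 o4
  obtain ⟨a2, b2, c2, e2, s2, -, u2, t2⟩ := h f6 o6
  obtain ⟨a3, b3, c3, e3, s3, v3, -, t3⟩ := h f8 (w o8).1
  obtain ⟨a4, b4, c4, e4, s4, v4, -, t4⟩ := h f12 (w o12).1
  obtain ⟨a5, b5, c5, e5, s5, v5, -, t5⟩ := h f16 (w o16).1
  obtain ⟨a6, b6, c6, e6, s6, v6, -, t6⟩ := h f24 (w o24).1
  obtain ⟨a7, b7, c7, e7, s7, v7, -, t7⟩ := h f32 (w o32).1
  obtain ⟨a8, b8, c8, e8, s8, v8, -, t8⟩ := h f48 (w o48).1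
  have z3 := v3 (w o8).2
  have z4 := v4 (w o12).2
  have z5 := v5 (w o16).2
  have z6 := v6 (w o24).2
  have z7 := v7 (w o32).2
  have z8 := v8 (w o48).2
  refine ⟨a1 + a2 + a3 + a4 + a5 + a6 + a7 + a8, b1 + b2, c1 + c2 + c3 + c4 + c5 + c6 + c7 + c8,
    ?_, by clear * - s1 s2; omega, ?_, ?_, ?_⟩
  · rw [e1, e2, e3, e4, e5, e6, e7, e8, z3, z4, z5, z6, z7, z8]; ring
  · clear * - s1 s2 s3 s4 s5 s6 s7 s8; omega
  · rintro (e | e)
    · have := u1 e; clear * - this; omega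
    · have := u2 e; clear * - this; omega
  · rintro (e | e | e | e | e | e | e | e)
    · have := t1 e; clear * - this; omega
    · have := t2 e; clear * - this; omega
    · have := t3 e; clear * - this; omega
    · have := t4 e; clear * - this; omega
    · have := t5 e; clear * - this; omega
    · have := t6 e; clear * - this; omega
    · have := t7 e; clear * - this; omega
    · have := t8 e; clear * - this; omega

end CfsgLib.Recog.OrderCounts
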