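import Cfsg.Agent.Lib.Recog.OrderCounts.SixArith
import Cfsg.Agent.Lib.Recog.OrdersFive.Main

/-!
# Recognition of the alternating group of degree six
-/

set_option autoImplicit false
set_option linter.unusedSectionVars false
set_option maxHeartbeats 1000000

namespace CfsgLib.Recog.OrderCounts

open Subgroup CfsgLib.Techniques.OrderClasses

variable {G : Type*} [Group G] [Finite G]

theorem six (h : CountsIn G {1, 45, 80, 90, 144}) (ha : Attains G {1, 45, 80, 90, 144}) :
    Nonempty (G ≃* alternatingGroup (Fin 6)) := by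
  classical
  haveI : Fact (Nat.Prime 3) := ⟨Nat.prime_three⟩
  haveI : Fact (Nat.Prime 5) := ⟨Nat.prime_five⟩
  have h2 : cnt G 2 = 45 := cnt_two_eq (by decide) (by norm_num) (by norm_num) (ha 45 (by simp))
  have hopt : ∀ m, 2 < m → cnt G m = 0 ∨ (cnt G m = 80 ∧ Nat.totient m ∣ 80) ∨
      (cnt G m = 90 ∧ Nat.totient m ∣ 90) ∨ (cnt G m = 144 ∧ Nat.totient m ∣ 144) := by
    intro m hm
    rcases h.options m with h0 | h0
    · exact Or.inl h0
    · simp only [Finset.mem_filter, Finset.mem_insert, Finset.mem_singleton] at h0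
      have he := even_cnt G hm
      rw [Nat.even_iff] at he
      rcases h0 with ⟨h0 | h0 | h0 | h0 | h0, hd⟩
      · omega
      · omega
      · exact Or.inr (Or.inl ⟨h0, h0 ▸ hd⟩)
      · exact Or.inr (Or.inr (Or.inl ⟨h0, h0 ▸ hd⟩))
      · exact Or.inr (Or.inr (Or.inr ⟨h0, h0 ▸ hd⟩))
  have ho : ∀ m, 2 < m → cnt G m = 0 ∨ cnt G m = 80 ∨ cnt G m = 90 ∨ cnt G m = 144 := fun m hm =>
    (hopt m hm).imp_right (Or.imp And.left (Or.imp And.left And.left))
  have ho' : ∀ m, 2 < m → ¬ Nat.totient m ∣ 90 →
      cnt G m = 0 ∨ cnt G m = 80 ∨ cnt G m = 144 := by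
    intro m hm hno
    rcases hopt m hm with h0 | ⟨h0, -⟩ | ⟨-, hd⟩ | ⟨h0, -⟩
    · exact Or.inl h0
    · exact Or.inr (Or.inl h0)
    · exact absurd hd hno
    · exact Or.inr (Or.inr h0)
  have hz : ∀ m, 2 < m → ¬ Nat.totient m ∣ 80 → ¬ Nat.totient m ∣ 90 → ¬ Nat.totient m ∣ 144 →
      cnt G m = 0 := by
    intro m hm a b c
    rcases hopt m hm with h0 | ⟨-, hd⟩ | ⟨-, hd⟩ | ⟨-, hd⟩
    exacts [h0, absurd hd a, absurd hd b, absurd hd c]
  have hπ : ∀ p, p.Prime → p ∣ Nat.card G → p = 2 ∨ p = 3 ∨ p = 5 ∨ p = 7 := by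
    intro p hp hpd
    obtain ⟨c, hc, h1, h2⟩ := h.prime_spec hp hpd
    simp only [Finset.mem_insert, Finset.mem_singleton] at hc
    rcases hc with rfl | rfl | rfl | rfl | rfl
    · exact Or.inl ((Nat.prime_dvd_prime_iff_eq hp Nat.prime_two).1 h2)
    all_goals
      have h3 := Nat.mem_divisors.2 ⟨h2, by norm_num⟩
      simp only [Nat.reduceAdd] at h3
      first
        | (rw [show Nat.divisors 46 = {1, 2, 23, 46} by decide] at h3
           simp only [Finset.mem_insert, Finset.mem_singleton] at h3
           rcases h3 with rfl | rfl | rfl | rfl <;> norm_num at *)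
        | (rw [show Nat.divisors 81 = {1, 3, 9, 27, 81} by decide] at h3
           simp only [Finset.mem_insert, Finset.mem_singleton] at h3
           rcases h3 with rfl | rfl | rfl | rfl | rfl <;> norm_num at *)
        | (rw [show Nat.divisors 91 = {1, 7, 13, 91} by decide] at h3
           simp only [Finset.mem_insert, Finset.mem_singleton] at h3
           rcases h3 with rfl | rfl | rfl | rfl <;> norm_num at *)
        | (rw [show Nat.divisors 145 = {1, 5, 29, 145} by decide] at h3
           simp only [Finset.mem_insert, Finset.mem_singleton] at h3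
           rcases h3 with rfl | rfl | rfl | rfl <;> norm_num at *)
  have h3d : 3 ∣ Nat.card G → cnt G 3 = 80 := by
    intro hd
    have h0 := cnt_ne_zero_of_prime Nat.prime_three hd
    have h1 := dvd_cnt_prime_succ Nat.prime_three hd
    have := ho 3 (by norm_num)
    omega
  have h5d : 5 ∣ Nat.card G → cnt G 5 = 144 := by
    intro hd
    have h0 := cnt_ne_zero_of_prime Nat.prime_five hd
    have h1 := dvd_cnt_prime_succ Nat.prime_five hd
    have := ho 5 (by norm_num)
    omega
  -- seven only occurs together with five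
  have h7 : 7 ∣ Nat.card G → 5 ∣ Nat.card G := by
    intro hd
    haveI : Fact (Nat.Prime 7) := ⟨by norm_num⟩
    have h0 := cnt_ne_zero_of_prime (G := G) (p := 7) (by norm_num) hd
    have h7' : cnt G 7 = 90 := by
      have h1 := dvd_cnt_prime_succ (G := G) (p := 7) (by norm_num) hd
      have := ho 7 (by norm_num)
      omega
    have h49 : ¬ 7 ^ 2 ∣ Nat.card G := fun hd2 => by
      have e := dvd_sum_cnt (G := G) hd2
      rw [show (7 : ℕ) ^ 2 = 49 from rfl, show Nat.divisors 49 = {1, 7, 49} by decide] at e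
      simp [Finset.sum_insert, cnt_one, h7', hz 49 (by norm_num) (by decide) (by decide) (by decide)]
        at e
    have := dvd_card_of_cnt_prime (G := G) (p := 7) (n := 15) hd h49 (by rw [h7'])
    exact dvd_trans (by norm_num) this
  have h125 : ¬ 125 ∣ Nat.card G := by
    intro hd
    have e125 := dvd_sum_cnt (G := G) hd
    rw [show Nat.divisors 125 = {1, 5, 25, 125} by decide] at e125
    simp [Finset.sum_insert, cnt_one, h5d ((show 5 ∣ 125 by norm_num).trans hd),
      hz 125 (by norm_num) (by decide) (by decide) (by decide)] at e125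
    have o25 := ho 25 (by norm_num)
    omega
  have h25 : ¬ 25 ∣ Nat.card G := by
    intro hd
    have h5 := h5d ((show 5 ∣ 25 by norm_num).trans hd)
    have e25 := dvd_sum_cnt (G := G) hd
    rw [show Nat.divisors 25 = {1, 5, 25} by decide] at e25
    simp [Finset.sum_insert, cnt_one, h5] at e25
    have o25 := ho 25 (by norm_num)
    have h25ne : cnt G 25 ≠ 0 := by omega
    have := mul_cnt_le_of_sylow_cyclic (G := G) (p := 5) (a := 1) le_rfl
      (show 5 ^ (1 + 1) ∣ Nat.card G by simpa using hd) (by simpa using h125)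
      (show cnt G (5 ^ (1 + 1)) ≠ 0 from h25ne)
    norm_num [h5] at this
    omega
  have z81 : cnt G 81 = 0 := hz 81 (by norm_num) (by decide) (by decide) (by decide)
  -- no element of order nine
  have h9z : cnt G 9 = 0 := by
    by_contra h0
    have hd := dvd_card_of_cnt G h0
    have h3 := h3d ((show 3 ∣ 9 by norm_num).trans hd)
    have o9 := ho 9 (by norm_num)
    by_cases h27d : 27 ∣ Nat.card G
    · have e27 := dvd_sum_cnt (G := G) h27d
      rw [show Nat.divisors 27 = {1, 3, 9, 27} by decide] at e27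
      simp [Finset.sum_insert, cnt_one, h3] at e27
      have o27 := hopt 27 (by norm_num)
      rw [show Nat.totient 27 = 18 by decide] at o27
      omega
    · have e9 := dvd_sum_cnt (G := G) hd
      rw [show Nat.divisors 9 = {1, 3, 9} by decide] at e9
      simp [Finset.sum_insert, cnt_one, h3] at e9
      have := mul_cnt_le_of_sylow_cyclic (G := G) (p := 3) (a := 1) le_rfl
        (show 3 ^ (1 + 1) ∣ Nat.card G by simpa using hd) (by simpa using h27d)
        (show cnt G (3 ^ (1 + 1)) ≠ 0 from h0)
      norm_num [h3] at this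
      omega
  have h64 : cnt G 64 = 0 := hz 64 (by norm_num) (by decide) (by decide) (by decide)
  have z96 : cnt G 96 = 0 := hz 96 (by norm_num) (by decide) (by decide) (by decide)
  by_cases h5 : 5 ∣ Nat.card G
  swap
  · -- only two primes
    exfalso
    have hπ2 : ∀ p, p.Prime → p ∣ Nat.card G → p = 2 ∨ p = 3 ∨ p = 5 := fun p hp hd => by
      rcases hπ p hp hd with e | e | e | e
      exacts [Or.inl e, Or.inr (Or.inl e), Or.inr (Or.inr e), absurd (h7 (e ▸ hd)) h5]
    have z5 := cnt_eq_zero_of_not_dvd h5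
    have hlist : ∀ g : G,
        orderOf g ∈ ({1, 2, 3, 4, 6, 8, 12, 16, 24, 32, 48} : Finset ℕ) := by
      intro g
      have hd : orderOf g ∣ 2 ^ 5 * 3 ^ 1 * 5 ^ 0 :=
        dvd_of_bounds (orderOf_pos g).ne'
          (fun p hp hd => hπ2 p hp (hd.trans (orderOf_dvd_natCard g)))
          (not_dvd_orderOf h64 g) (not_dvd_orderOf h9z g) (not_dvd_orderOf z5 g)
      have hm : orderOf g ∈ Nat.divisors 96 := Nat.mem_divisors.2 ⟨hd, by norm_num⟩
      have h96 := not_dvd_orderOf z96 g
      rw [show Nat.divisors 96 = {1, 2, 3, 4, 6, 8, 12, 16, 24, 32, 48, 96} by decide] at hm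
      simp only [Finset.mem_insert, Finset.mem_singleton] at hm ⊢
      omega
    have hsum := card_eq_sum_cnt _ hlist
    simp [Finset.sum_insert, cnt_one, h2] at hsum
    obtain ⟨m, hm⟩ := ha 80 (by simp)
    obtain ⟨m', hm'⟩ := ha 90 (by simp)
    obtain ⟨m'', hm''⟩ := ha 144 (by simp)
    have hatt : ∀ {m c}, cnt G m = c → 45 < c → cnt G 3 = c ∨ cnt G 4 = c ∨ cnt G 6 = c ∨
        cnt G 8 = c ∨ cnt G 12 = c ∨ cnt G 16 = c ∨ cnt G 24 = c ∨ cnt G 32 = c ∨
        cnt G 48 = c := by
      intro m c hm hc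
      obtain ⟨g, rfl⟩ := cnt_ne_zero G (m := m) (by omega)
      have := hlist g
      simp only [Finset.mem_insert, Finset.mem_singleton] at this
      rcases this with e | e | e | e | e | e | e | e | e | e | e <;> rw [e] at hm <;>
        (try rw [cnt_one] at hm) <;> omega
    have a90 := hatt hm' (by norm_num)
    have a144 := hatt hm'' (by norm_num)
    have o4 := ho 4 (by norm_num)
    have o6 := ho 6 (by norm_num)
    have o8 := ho' 8 (by norm_num) (by decide)
    have o12 := ho' 12 (by norm_num) (by decide)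
    have o16 := ho' 16 (by norm_num) (by decide)
    have o24 := ho' 24 (by norm_num) (by decide)
    have o32 := ho' 32 (by norm_num) (by decide)
    have o48 := ho' 48 (by norm_num) (by decide)
    obtain ⟨A, B, C, hABC, hB2, hlen, hB1, hC1⟩ := six_combo o4 o6 o8 o12 o16 o24 o32 o48
    have hB : 1 ≤ B := by
      apply hB1
      clear * - a90 h3d o8 o12 o16 o24 o32 o48
      rcases a90 with e | e | e | e | e | e | e | e | e
      · exfalso
        by_cases h3 : 3 ∣ Nat.card G
        · rw [h3d h3] at e; omega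
        · rw [cnt_eq_zero_of_not_dvd h3] at e; omega
      all_goals omega
    by_cases h3 : 3 ∣ Nat.card G
    swap
    · have z3 := cnt_eq_zero_of_not_dvd h3
      have z6 := cnt_eq_zero_of_dvd (G := G) (show 3 ∣ 6 by norm_num) z3
      have z12 := cnt_eq_zero_of_dvd (G := G) (show 3 ∣ 12 by norm_num) z3
      have z24 := cnt_eq_zero_of_dvd (G := G) (show 3 ∣ 24 by norm_num) z3
      have z48 := cnt_eq_zero_of_dvd (G := G) (show 3 ∣ 48 by norm_num) z3
      have hub : Nat.card G < 2 ^ 10 := by
        clear * - hsum z3 z6 z12 z24 z48 o4 o8 o16 o32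
        omega
      have hd : Nat.card G ∣ 2 ^ 10 := by
        simpa using dvd_of_bounds (n := Nat.card G) (a := 10) (b := 0) (c := 0) Nat.card_pos.ne' hπ2
          (fun hd => by have h := Nat.le_of_dvd Nat.card_pos hd; clear * - h hub; omega) (by simpa using h3)
          (by simpa using h5)
      obtain ⟨a, hale, hae⟩ := (Nat.dvd_prime_pow Nat.prime_two).1 hd
      clear * - hsum z3 z6 z12 z24 z48 o4 o8 o16 o32 hale hae a90 a144
      rcases o4 with e | e | e | e <;>
        interval_cases a <;> omega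
    have f3 := h3d h3
    have h81 : ¬ 81 ∣ Nat.card G := by
      intro hd
      have heven : 2 ∣ Nat.card G := dvd_card_of_cnt G (m := 2) (by omega)
      have e := dvd_sum_cnt (G := G)
        ((show (162 : ℕ) = 2 * 81 from rfl) ▸ Nat.Coprime.mul_dvd_of_dvd_of_dvd (by norm_num) heven hd)
      rw [show Nat.divisors 162 = {1, 2, 3, 6, 9, 18, 27, 54, 81, 162} by decide] at e
      have z18 := cnt_eq_zero_of_dvd (G := G) (show 9 ∣ 18 by norm_num) h9z
      have z27 := cnt_eq_zero_of_dvd (G := G) (show 9 ∣ 27 by norm_num) h9z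
      have z54 := cnt_eq_zero_of_dvd (G := G) (show 9 ∣ 54 by norm_num) h9z
      have z162 := cnt_eq_zero_of_dvd (G := G) (show 81 ∣ 162 by norm_num) z81
      simp [Finset.sum_insert, cnt_one, h2, f3, h9z, z18, z27, z54, z81, z162] at e
      clear * - e o6
      omega
    have h9 : 9 ∣ Nat.card G := by
      by_contra h9
      have := dvd_card_of_cnt_prime (G := G) (p := 3) (n := 40) h3 (by simpa using h9) (by rw [f3])
      exact h5 (dvd_trans (by norm_num) this)
    have hC : 1 ≤ C := hC1 (a144.resolve_left (by rw [f3]; decide))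
    have hN : Nat.card G = 126 + 80 * A + 90 * B + 144 * C := by
      clear * - hsum f3 hABC
      omega
    have hub : Nat.card G ≤ 1278 := by clear * - hN hlen; omega
    have hd : Nat.card G ∣ 2 ^ 7 * 3 ^ 3 := by
      simpa using dvd_of_bounds (n := Nat.card G) (a := 7) (b := 3) (c := 0) Nat.card_pos.ne' hπ2
        (fun hd => by
          have h := Nat.le_of_dvd Nat.card_pos
            (Nat.Coprime.mul_dvd_of_dvd_of_dvd (by norm_num) hd h9)
          clear * - h hub
          omega)
        (by simpa using h81) (by simpa using h5)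
    obtain ⟨x, y, hx, hy, hxy⟩ := (Nat.dvd_mul).1 hd
    obtain ⟨a, hale, rfl⟩ := (Nat.dvd_prime_pow Nat.prime_two).1 hx
    obtain ⟨b, hble, rfl⟩ := (Nat.dvd_prime_pow Nat.prime_three).1 hy
    rw [← hxy] at hN h9
    clear * - hN h9 hale hble hB hB2 hC hlen
    interval_cases a <;> interval_cases b <;> (norm_num at hN h9) <;> omega
  -- five divides the order
  have f5 := h5d h5
  have hC5 : ∀ z : G, orderOf z = 5 → Nat.card (centralizer ({z} : Set G)) = 5 := by
    intro z hz5
    rcases centralizer_card_dvd (p := 5) (by simpa using h25) hz5 (fun m => by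
      rcases h.options m with h0 | h0
      · omega
      · simp only [Finset.mem_filter, Finset.mem_insert, Finset.mem_singleton] at h0
        omega) with e | ⟨-, e⟩
    · exact e
    · exfalso
      rw [f5, show 2 * 5 = 10 from rfl] at e
      have e' := cnt_mul_add G Nat.prime_five 2 (by norm_num)
        (dvd_card_of_cnt G (m := 10) (by omega))
      rw [← Nat.cast_add, ZMod.natCast_eq_zero_iff, h2, show 5 * 2 = 10 from rfl] at e'
      have := ho 10 (by norm_num)
      omega
  obtain ⟨y, n, c, hy, hn, hc, hcard⟩ := sylow_data (G := G) (p := 5) h5 (by simpa using h25)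
  rw [f5] at hn
  obtain rfl : n = 36 := by omega
  rw [hC5 y hy] at hcard
  have hc' : c ∣ 4 := by simpa using hc
  have hc4 := Nat.le_of_dvd (by norm_num) hc'
  have f3 := h3d (by rw [hcard]; exact dvd_mul_of_dvd_left (by norm_num) _)
  have h7' : ¬ 7 ∣ Nat.card G := by
    clear * - hcard hc' hc4
    interval_cases c <;> omega
  have hπ3 : ∀ p, p.Prime → p ∣ Nat.card G → p = 2 ∨ p = 3 ∨ p = 5 := fun p hp hd => by
    rcases hπ p hp hd with e | e | e | e
    exacts [Or.inl e, Or.inr (Or.inl e), Or.inr (Or.inr e), absurd (e ▸ hd) h7']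
  have hlist : ∀ g : G,
      orderOf g ∈ ({1, 2, 3, 4, 5, 6, 8, 12, 16, 24, 32, 48} : Finset ℕ) := by
    intro g
    have hd : orderOf g ∣ 2 ^ 5 * 3 ^ 1 * 5 ^ 1 :=
      dvd_of_bounds (orderOf_pos g).ne'
        (fun p hp hd => hπ3 p hp (hd.trans (orderOf_dvd_natCard g)))
        (not_dvd_orderOf h64 g) (not_dvd_orderOf h9z g)
        (fun hd => h25 (hd.trans (orderOf_dvd_natCard g)))
    by_cases h5g : 5 ∣ orderOf g
    · rw [eq_of_self_centralizing (p := 5) hC5 h5g]; simp
    have hd96 : orderOf g ∣ 96 := by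
      have hcop : Nat.Coprime (orderOf g) 5 :=
        (Nat.Prime.coprime_iff_not_dvd Nat.prime_five).2 h5g |>.symm
      exact hcop.dvd_of_dvd_mul_right hd
    have hm : orderOf g ∈ Nat.divisors 96 := Nat.mem_divisors.2 ⟨hd96, by norm_num⟩
    have h96 := not_dvd_orderOf z96 g
    rw [show Nat.divisors 96 = {1, 2, 3, 4, 6, 8, 12, 16, 24, 32, 48, 96} by decide] at hm
    simp only [Finset.mem_insert, Finset.mem_singleton] at hm ⊢
    omega
  have hsum := card_eq_sum_cnt _ hlist
  simp [Finset.sum_insert, cnt_one, h2, f3, f5] at hsum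
  have o4 := ho 4 (by norm_num)
  have o6 := ho 6 (by norm_num)
  have o8 := ho' 8 (by norm_num) (by decide)
  have o12 := ho' 12 (by norm_num) (by decide)
  have o16 := ho' 16 (by norm_num) (by decide)
  have o24 := ho' 24 (by norm_num) (by decide)
  have o32 := ho' 32 (by norm_num) (by decide)
  have o48 := ho' 48 (by norm_num) (by decide)
  obtain ⟨A, B, C, hABC, hB2, hlen, hB1, hC1⟩ := six_combo o4 o6 o8 o12 o16 o24 o32 o48
  have hB : 1 ≤ B := by
    apply hB1
    obtain ⟨m, hm⟩ := ha 90 (by simp)
    obtain ⟨g, rfl⟩ := cnt_ne_zero G (m := m) (by omega)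
    have hmem := hlist g
    simp only [Finset.mem_insert, Finset.mem_singleton] at hmem
    clear * - hm hmem f3 f5 h2 o8 o12 o16 o24 o32 o48
    rcases hmem with e | e | e | e | e | e | e | e | e | e | e | e <;> rw [e] at hm <;>
      (try rw [cnt_one] at hm) <;> omega
  have hN : Nat.card G = 270 + 80 * A + 90 * B + 144 * C := by
    clear * - hsum hABC
    omega
  have h360 : Nat.card G = 360 ∧ A = 0 ∧ C = 0 ∧ B = 1 := by
    clear * - hN hcard hc' hc4 hB hB2 hlen
    interval_cases c <;> omega
  obtain ⟨h360, hA0, hC0, hB1'⟩ := h360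
  have h8 : cnt G 8 = 0 ∧ cnt G 12 = 0 ∧ cnt G 16 = 0 ∧ cnt G 24 = 0 ∧ cnt G 32 = 0 ∧
      cnt G 48 = 0 ∧ (cnt G 4 = 90 ∧ cnt G 6 = 0 ∨ cnt G 4 = 0 ∧ cnt G 6 = 90) := by
    clear * - hABC hA0 hC0 hB1' o4 o6 o8 o12 o16 o24 o32 o48
    omega
  have e8 := dvd_sum_cnt (G := G) (N := 8) (by rw [h360]; norm_num)
  rw [show Nat.divisors 8 = {1, 2, 4, 8} by decide] at e8
  simp [Finset.sum_insert, cnt_one, h2, h8.1] at e8
  have hle : CfsgLib.Recog.OrdersFive.LeFive G := by
    intro g
    have hmem := hlist g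
    simp only [Finset.mem_insert, Finset.mem_singleton] at hmem
    have hpos := cnt_pos G (rfl : orderOf g = orderOf g)
    clear * - hmem hpos h8 e8
    rcases hmem with e | e | e | e | e | e | e | e | e | e | e | e <;> rw [e] at hpos ⊢ <;> omega
  refine CfsgLib.Recog.OrdersFive.six hle (by rw [h360]; norm_num) fun hs => ?_
  haveI := hs
  have := hle.card_primeFactors_solvable
  have hsub : ({2, 3, 5} : Finset ℕ) ⊆ (Nat.card G).primeFactors := by
    intro p hp
    simp only [Finset.mem_insert, Finset.mem_singleton] at hp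
    rcases hp with rfl | rfl | rfl <;> rw [h360] <;>
      exact Nat.mem_primeFactors.2 ⟨by norm_num, by norm_num, by norm_num⟩
  have := (Finset.card_le_card hsub).trans this
  norm_num at this

end CfsgLib.Recog.OrderCounts
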